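import Groth.Agent.DRingKP.KFlat
import Groth.Agent.DRingKP.Pseudo
import Groth.Agent.TraceDer.Basic
import Groth.Agent.Shriek.HomTensor
import Groth.Agent.RHomMod.Basic
import Groth.Prelude.Def_DRing4
import Mathlib.RingTheory.Finiteness.Basic

/-!
# `Hom•(P, K)` is K-flat for perfect `P` and K-flat `K`
-/

set_option autoImplicit false
set_option backward.isDefEq.respectTransparency false

universe u

open CategoryTheory Limits MonoidalCategory ZeroObject HomologicalComplex CochainComplex CochainComplex.HomComplex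
  TensorProduct

attribute [local instance] HasDerivedCategory.standard

noncomputable section

namespace Groth.Agent.HomKFlat

variable {A : Type u} [CommRing A]

/-- precomposition with a cochain of degree `-1`, twisted by the sign of the degree -/
def preC {P P' : DRing.Cx A} (c : Cochain P' P (-1)) (K : DRing.Cx A) :
    Cochain (DRing.homCx P K) (DRing.homCx P' K) (-1) :=
  Cochain.mk fun p q hpq => ModuleCat.ofHom
    { toFun := fun z => p.negOnePow • c.comp (show Cochain P K p from z) (show -1 + p = q by omega)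
      map_add' := fun z z' => (congrArg (p.negOnePow • ·) (Cochain.comp_add _ _ _ _)).trans (smul_add _ _ _)
      map_smul' := fun a z =>
        (congrArg (p.negOnePow • ·) (Cochain.comp_smul _ _ _ _)).trans (smul_comm p.negOnePow a _) }

theorem δ_preC {P P' : DRing.Cx A} {c : Cochain P' P (-1)} {h : P' ⟶ P}
    (hc : δ (-1) 0 c = Cochain.ofHom h) (K : DRing.Cx A) :
    δ (-1) 0 (preC c K) = Cochain.ofHom (RHomMod.preMap h K) := by
  refine Cochain.ext _ _ fun p q hpq => ?_
  obtain rfl : p = q := by omega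
  rw [δ_v (-1) 0 (neg_add_cancel 1) _ p p hpq (p - 1) (p + 1) rfl rfl, Cochain.ofHom_v, Int.negOnePow_zero, one_smul]
  refine ModuleCat.hom_ext (LinearMap.ext fun (z : Cochain P K p) => ?_)
  change δ (p - 1) p (p.negOnePow • c.comp z (show -1 + p = p - 1 by omega)) +
      (p + 1).negOnePow • c.comp (δ p (p + 1) z) (show -1 + (p + 1) = p by omega) =
    (Cochain.ofHom h).comp z (zero_add p)
  rw [δ_units_smul, δ_comp c z (show -1 + p = p - 1 by omega) 0 (p + 1) p (by omega) (neg_add_cancel 1) rfl, hc,
    Int.negOnePow_succ, smul_add, smul_smul, Int.units_mul_self, one_smul, Units.neg_smul]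
  abel

theorem preMap_id (P K : DRing.Cx A) : RHomMod.preMap (𝟙 P) K = 𝟙 (DRing.homCx P K) :=
  HomologicalComplex.hom_ext _ _ fun i => ModuleCat.hom_ext (LinearMap.ext fun (z : Cochain P K i) => Cochain.id_comp z)

theorem preMap_sub {P P' : DRing.Cx A} (f g : P' ⟶ P) (K : DRing.Cx A) :
    RHomMod.preMap (f - g) K = RHomMod.preMap f K - RHomMod.preMap g K :=
  HomologicalComplex.hom_ext _ _ fun i => ModuleCat.hom_ext (LinearMap.ext fun (z : Cochain P K i) => by
    show (Cochain.ofHom (f - g)).comp z (zero_add i) = _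
    rw [Cochain.ofHom_sub, Cochain.sub_comp]
    rfl)

theorem nonempty_homotopy_preMap {P P' : DRing.Cx A} {f g : P' ⟶ P} (H : Homotopy f g) (K : DRing.Cx A) :
    Nonempty (Homotopy (RHomMod.preMap f K) (RHomMod.preMap g K)) := by
  obtain ⟨c, hc⟩ := Cochain.equivHomotopy _ _ H
  have hc' : δ (-1) 0 c = Cochain.ofHom (f - g) := by rw [Cochain.ofHom_sub, hc, add_sub_cancel_right]
  refine ⟨(Cochain.equivHomotopy _ _).symm ⟨preC c K, ?_⟩⟩
  rw [δ_preC hc', preMap_sub, Cochain.ofHom_sub, sub_add_cancel]

section Finite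

variable (L E K : DRing.Cx A)

/-- tensoring on the left with an element -/
def lmul {M N : ModuleCat.{u} A} (l : M) : N ⟶ M ⊗ N := ModuleCat.ofHom (TensorProduct.mk A M N l)

/-- the values of the comparison map -/
def thetaVal (p n m : ℤ) (h : p + n = m) (l : L.X p) (z : Cochain E K n) : Cochain E (L ⊗ K) m :=
  Cochain.mk fun i s hs => z.v i (i + n) rfl ≫ lmul l ≫ ιTensorObj L K p (i + n) s (by omega)

theorem thetaVal_v (p n m : ℤ) (h : p + n = m) (l : L.X p) (z : Cochain E K n) (i q s : ℤ) (hq : i + n = q)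
    (hs : i + m = s) (x : E.X i) :
    ((thetaVal L E K p n m h l z).v i s hs).hom x =
      (ιTensorObj L K p q s (by omega)).hom (l ⊗ₜ[A] (z.v i q hq).hom x) := by
  subst hq
  rfl

/-- the comparison map `L ⊗ Hom•(E, K) → Hom•(E, L ⊗ K)` on a summand -/
def thetaV (p n m : ℤ) (h : p + n = m) : L.X p ⊗ (DRing.homCx E K).X n ⟶ (DRing.homCx E (L ⊗ K)).X m :=
  ModuleCat.MonoidalCategory.tensorLift (fun l z => thetaVal L E K p n m h l z)
    (fun l l' z => Cochain.ext _ _ fun i s hs => ModuleCat.hom_ext (LinearMap.ext fun x => by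
      rw [thetaVal_v L E K p n m h (l + l') z i (i + n) s rfl hs x, TensorProduct.add_tmul, map_add]
      rfl))
    (fun a l z => Cochain.ext _ _ fun i s hs => ModuleCat.hom_ext (LinearMap.ext fun x => by
      rw [thetaVal_v L E K p n m h (a • l) z i (i + n) s rfl hs x, ← TensorProduct.smul_tmul', map_smul]
      rfl))
    (fun l z z' => Cochain.ext _ _ fun i s hs => ModuleCat.hom_ext (LinearMap.ext fun x => by
      rw [thetaVal_v L E K p n m h l (z + z') i (i + n) s rfl hs x]
      erw [Cochain.add_v, TensorProduct.tmul_add, map_add]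
      rfl))
    (fun a l z => Cochain.ext _ _ fun i s hs => ModuleCat.hom_ext (LinearMap.ext fun x => by
      rw [thetaVal_v L E K p n m h l (a • z) i (i + n) s rfl hs x]
      erw [Cochain.smul_v, TensorProduct.tmul_smul, map_smul]
      rfl))

/-- the comparison map in one degree -/
def thetaF (m : ℤ) : (L ⊗ DRing.homCx E K).X m ⟶ (DRing.homCx E (L ⊗ K)).X m :=
  mapBifunctorDesc fun p n h => thetaV L E K p n m h

theorem thetaF_ι (p n m : ℤ) (h : p + n = m) (l : L.X p) (z : Cochain E K n) :
    (thetaF L E K m).hom ((ιTensorObj L (DRing.homCx E K) p n m h).hom (l ⊗ₜ[A] z)) =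
      thetaVal L E K p n m h l z :=
  LinearMap.congr_fun (congrArg ModuleCat.Hom.hom
    (ι_mapBifunctorDesc (F := curriedTensor (ModuleCat.{u} A)) (fun p n h => thetaV L E K p n m h) p n h))
    (l ⊗ₜ[A] z)

/-- the comparison map -/
def theta : L ⊗ DRing.homCx E K ⟶ DRing.homCx E (L ⊗ K) where
  f := thetaF L E K
  comm' m m' hm := by
    obtain rfl : m + 1 = m' := hm
    refine mapBifunctor.hom_ext fun p n h => ModuleCat.MonoidalCategory.tensor_ext fun l (z : Cochain E K n) => ?_
    change p + n = m at h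
    refine Cochain.ext _ _ fun i s hs => ModuleCat.hom_ext (LinearMap.ext fun (x : E.X i) => ?_)
    show ((δ m (m + 1) (show Cochain E (L ⊗ K) m from (thetaF L E K m).hom
        ((ιTensorObj L (DRing.homCx E K) p n m h).hom (l ⊗ₜ[A] z)))).v i s hs).hom x =
      ((show Cochain E (L ⊗ K) (m + 1) from (thetaF L E K (m + 1)).hom
        (((ιTensorObj L (DRing.homCx E K) p n m h ≫ (L ⊗ DRing.homCx E K).d m (m + 1)).hom
          (l ⊗ₜ[A] z)))).v i s hs).hom x
    rw [Shriek.ι_tensor_d L (DRing.homCx E K) p n m (m + 1) (p + 1) (n + 1) h rfl rfl rfl]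
    simp only [ModuleCat.hom_add, LinearMap.add_apply, Units.smul_def, ModuleCat.hom_zsmul, LinearMap.smul_apply,
      ModuleCat.hom_comp, LinearMap.comp_apply, map_add, map_zsmul, ModuleCat.MonoidalCategory.whiskerRight_apply,
      ModuleCat.MonoidalCategory.whiskerLeft_apply]
    rw [thetaF_ι, δ_v m (m + 1) rfl _ i s hs (s - 1) (i + 1) rfl rfl]
    erw [thetaF_ι, thetaF_ι, Cochain.add_v, Cochain.smul_v]
    simp only [ModuleCat.hom_add, LinearMap.add_apply, ModuleCat.hom_zsmul, LinearMap.smul_apply]
    erw [thetaVal_v L E K (p + 1) n (m + 1) (by omega) _ z i (i + n) s rfl hs x,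
      thetaVal_v L E K p (n + 1) (m + 1) (by omega) l _ i (i + n + 1) s (by omega) hs x]
    erw [δ_v n (n + 1) rfl z i (i + n + 1) (by omega) (i + n) (i + 1) (by omega) rfl]
    simp only [ModuleCat.hom_add, LinearMap.add_apply, Units.smul_def, ModuleCat.hom_zsmul, LinearMap.smul_apply,
      ModuleCat.hom_comp, LinearMap.comp_apply]
    rw [thetaVal_v L E K p n m h l z i (i + n) (s - 1) rfl (by omega) x,
      thetaVal_v L E K p n m h l z (i + 1) (i + n + 1) s (by omega) (by omega)]
    have hd := LinearMap.congr_fun (congrArg ModuleCat.Hom.hom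
      (Shriek.ι_tensor_d L K p (i + n) (s - 1) s (p + 1) (i + n + 1) (by omega) rfl rfl (by omega)))
      (l ⊗ₜ[A] (z.v i (i + n) rfl).hom x)
    simp only [ModuleCat.hom_add, LinearMap.add_apply, Units.smul_def, ModuleCat.hom_zsmul, LinearMap.smul_apply,
      ModuleCat.hom_comp, LinearMap.comp_apply, ModuleCat.MonoidalCategory.whiskerRight_apply,
      ModuleCat.MonoidalCategory.whiskerLeft_apply] at hd
    erw [hd]
    have hsgn : ((m + 1).negOnePow : ℤ) = (p.negOnePow : ℤ) * ((n + 1).negOnePow : ℤ) := by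
      rw [show m + 1 = p + (n + 1) by omega, Int.negOnePow_add]
      rfl
    erw [TensorProduct.tmul_add, map_add]
    rw [TensorProduct.tmul_smul, map_zsmul, smul_add, smul_smul, hsgn]
    exact add_assoc _ _ _

variable {E}

theorem bijective_thetaF {a b : ℤ} (hE : DRing.VanishesOutside E a b) (hEp : DRing.TermwiseFiniteProjective E)
    (m : ℤ) : Function.Bijective (thetaF L E K m).hom := by
  have hdual : ∀ i : ℤ, ∃ (k : ℕ) (e : Fin k → E.X i) (φ : Fin k → (E.X i →ₗ[A] A)),
      ∀ x, ∑ j, φ j x • e j = x := fun i => by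
    obtain ⟨hf, hp⟩ := hEp i
    obtain ⟨k, π, hπ⟩ := Module.Finite.exists_fin' A (E.X i)
    obtain ⟨s, hs⟩ := Module.projective_lifting_property π LinearMap.id hπ
    refine ⟨k, fun j => π (Pi.single j 1), fun j => (LinearMap.proj j).comp s, fun x => ?_⟩
    conv_rhs => rw [← LinearMap.id_apply (R := A) x, ← hs, LinearMap.comp_apply, pi_eq_sum_univ' (s x), map_sum]
    exact Finset.sum_congr rfl fun j _ => (map_smul π _ _).symm
  choose k e φ hφ using hdual
  let jm : ∀ (i : ℤ) (j : Fin (k i)) (q n : ℤ), i + n = q → (K.X q →ₗ[A] Cochain E K n) := fun i j q n _ =>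
    { toFun := fun y => Cochain.single (ModuleCat.ofHom ((φ i j).smulRight y)) n
      map_add' := fun y y' => Cochain.ext _ _ fun p' q' h' => by
        rw [Cochain.add_v]
        dsimp [Cochain.single]
        split_ifs with hh
        · obtain ⟨rfl, rfl⟩ := hh
          refine ModuleCat.hom_ext (LinearMap.ext fun x => ?_)
          simp [smul_add]
        · simp
      map_smul' := fun c y => Cochain.ext _ _ fun p' q' h' => by
        rw [RingHom.id_apply, Cochain.smul_v]
        dsimp [Cochain.single]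
        split_ifs with hh
        · obtain ⟨rfl, rfl⟩ := hh
          refine ModuleCat.hom_ext (LinearMap.ext fun x => ?_)
          simp [smul_comm c]
        · simp }
  let jT : ∀ (i : ℤ) (j : Fin (k i)), (L ⊗ K).X (i + m) ⟶ (L ⊗ DRing.homCx E K).X m := fun i j =>
    mapBifunctorDesc fun p q h => (L.X p ◁ ModuleCat.ofHom (jm i j q (q - i) (by omega))) ≫
      ιTensorObj L (DRing.homCx E K) p (q - i) m (by change p + q = i + m at h; omega)
  have hjT : ∀ (i : ℤ) (j : Fin (k i)) (p n q : ℤ) (hq : i + n = q) (hp : p + q = i + m) (l : L.X p) (y : K.X q),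
      (jT i j).hom ((ιTensorObj L K p q (i + m) hp).hom (l ⊗ₜ[A] y)) =
        (ιTensorObj L (DRing.homCx E K) p n m (by omega)).hom (l ⊗ₜ[A] jm i j q n hq y) := by
    intro i j p n q hq hp l y
    obtain rfl : n = q - i := by omega
    exact LinearMap.congr_fun (congrArg ModuleCat.Hom.hom
      (ι_mapBifunctorDesc (F := curriedTensor (ModuleCat.{u} A)) _ p q hp)) (l ⊗ₜ[A] y)
  let ψ : Cochain E (L ⊗ K) m → (L ⊗ DRing.homCx E K).X m := fun w =>
    ∑ i ∈ Finset.Icc a b, ∑ j, (jT i j).hom ((w.v i (i + m) rfl).hom (e i j))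
  have hψθ : ∀ t, ψ ((thetaF L E K m).hom t) = t := by
    intro t
    let Ψ : (DRing.homCx E (L ⊗ K)).X m →ₗ[A] (L ⊗ DRing.homCx E K).X m :=
      { toFun := ψ
        map_add' := fun w w' => by
          simp only [ψ, ← Finset.sum_add_distrib]
          refine Finset.sum_congr rfl fun i _ => Finset.sum_congr rfl fun j _ => ?_
          erw [Cochain.add_v, ← map_add]
          rfl
        map_smul' := fun c w => by
          simp only [ψ, Finset.smul_sum, RingHom.id_apply]
          refine Finset.sum_congr rfl fun i _ => Finset.sum_congr rfl fun j _ => ?_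
          erw [Cochain.smul_v, ← map_smul]
          rfl }
    suffices h : thetaF L E K m ≫ ModuleCat.ofHom Ψ = 𝟙 _ from LinearMap.congr_fun (congrArg ModuleCat.Hom.hom h) t
    refine mapBifunctor.hom_ext fun p n h => ModuleCat.MonoidalCategory.tensor_ext fun l (z : Cochain E K n) => ?_
    change p + n = m at h
    show ψ ((thetaF L E K m).hom ((ιTensorObj L (DRing.homCx E K) p n m h).hom (l ⊗ₜ[A] z))) =
      (ιTensorObj L (DRing.homCx E K) p n m h).hom (l ⊗ₜ[A] z)
    rw [thetaF_ι]
    have hz : z = ∑ i ∈ Finset.Icc a b, ∑ j, jm i j (i + n) n rfl ((z.v i (i + n) rfl).hom (e i j)) := by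
      refine Cochain.ext _ _ fun i' q' h' => ModuleCat.hom_ext (LinearMap.ext fun x => ?_)
      by_cases hi : i' ∈ Finset.Icc a b
      · subst h'
        let evh : Cochain E K n →+ (K.X (i' + n)) :=
          { toFun := fun u => (u.v i' (i' + n) rfl).hom x
            map_zero' := rfl
            map_add' := fun _ _ => rfl }
        show evh z = evh (∑ i ∈ Finset.Icc a b, ∑ j, jm i j (i + n) n rfl ((z.v i (i + n) rfl).hom (e i j)))
        rw [map_sum, Finset.sum_eq_single_of_mem i' hi fun i _ hne => by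
            rw [map_sum]
            refine Finset.sum_eq_zero fun j _ => ?_
            have h0 : (jm i j (i + n) n rfl ((z.v i (i + n) rfl).hom (e i j))).v i' (i' + n) rfl = 0 :=
              Cochain.single_v_eq_zero (K := E) (L := K) _ n i' (i' + n) rfl (Ne.symm hne)
            exact LinearMap.congr_fun (congrArg ModuleCat.Hom.hom h0) x]
        rw [map_sum]
        show (z.v i' (i' + n) rfl).hom x = _
        conv_lhs => rw [← hφ i' x, map_sum]
        refine Finset.sum_congr rfl fun j _ => ?_
        rw [map_smul]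
        have h1 : (jm i' j (i' + n) n rfl ((z.v i' (i' + n) rfl).hom (e i' j))).v i' (i' + n) rfl =
            ModuleCat.ofHom ((φ i' j).smulRight ((z.v i' (i' + n) rfl).hom (e i' j))) :=
          Cochain.single_v (K := E) (L := K) _ n rfl
        exact (LinearMap.congr_fun (congrArg ModuleCat.Hom.hom h1) x).symm
      · simp only [Finset.mem_Icc] at hi
        haveI := ModuleCat.subsingleton_of_isZero (hE i' (by omega))
        rw [Subsingleton.elim x 0, map_zero, map_zero]
    conv_rhs => rw [hz]
    simp only [TensorProduct.tmul_sum, map_sum, ψ]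
    refine Finset.sum_congr rfl fun i _ => Finset.sum_congr rfl fun j _ => ?_
    rw [thetaVal_v L E K p n m h l z i (i + n) (i + m) rfl rfl (e i j)]
    exact hjT i j p n (i + n) rfl (by omega) l _
  refine ⟨Function.LeftInverse.injective hψθ, fun (w : Cochain E (L ⊗ K) m) => ⟨ψ w, ?_⟩⟩
  refine Cochain.ext _ _ fun i' s hs => ModuleCat.hom_ext (LinearMap.ext fun (x : E.X i') => ?_)
  subst hs
  by_cases hi : i' ∈ Finset.Icc a b
  · let ev : (DRing.homCx E (L ⊗ K)).X m →ₗ[A] (L ⊗ K).X (i' + m) :=
      { toFun := fun u => ((show Cochain E (L ⊗ K) m from u).v i' (i' + m) rfl).hom x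
        map_add' := fun _ _ => rfl
        map_smul' := fun _ _ => rfl }
    have hone : ∀ (i : ℤ) (j : Fin (k i)) (t : (L ⊗ K).X (i + m)),
        ev ((thetaF L E K m).hom ((jT i j).hom t)) =
          if h : i = i' then (h ▸ φ i j) x • (h ▸ t : (L ⊗ K).X (i' + m)) else 0 := by
      intro i j t
      by_cases h : i = i'
      · subst h
        rw [dif_pos rfl]
        suffices hh : jT i j ≫ thetaF L E K m ≫ ModuleCat.ofHom ev = φ i j x • 𝟙 _ from
          LinearMap.congr_fun (congrArg ModuleCat.Hom.hom hh) t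
        refine mapBifunctor.hom_ext fun p q hp => ModuleCat.MonoidalCategory.tensor_ext fun l y => ?_
        change p + q = i + m at hp
        show ev ((thetaF L E K m).hom ((jT i j).hom ((ιTensorObj L K p q (i + m) hp).hom (l ⊗ₜ[A] y)))) =
          φ i j x • (ιTensorObj L K p q (i + m) hp).hom (l ⊗ₜ[A] y)
        rw [hjT i j p (q - i) q (by omega) hp l y, thetaF_ι]
        refine (thetaVal_v L E K p (q - i) m (by omega) l _ i q (i + m) (by omega) rfl x).trans ?_
        rw [show ((jm i j q (q - i) (by omega) y).v i q (by omega)) = _ from Cochain.single_v _ _ _,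
          ← map_smul, ← TensorProduct.tmul_smul]
        rfl
      · rw [dif_neg h]
        suffices hh : jT i j ≫ thetaF L E K m ≫ ModuleCat.ofHom ev = 0 from
          LinearMap.congr_fun (congrArg ModuleCat.Hom.hom hh) t
        refine mapBifunctor.hom_ext fun p q hp => ModuleCat.MonoidalCategory.tensor_ext fun l y => ?_
        change p + q = i + m at hp
        show ev ((thetaF L E K m).hom ((jT i j).hom ((ιTensorObj L K p q (i + m) hp).hom (l ⊗ₜ[A] y)))) = 0
        rw [hjT i j p (q - i) q (by omega) hp l y, thetaF_ι]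
        refine (thetaVal_v L E K p (q - i) m (by omega) l _ i' (i' + (q - i)) (i' + m) rfl rfl x).trans ?_
        rw [show ((jm i j q (q - i) (by omega) y).v i' (i' + (q - i)) rfl) = 0 from
          Cochain.single_v_eq_zero _ _ _ _ _ (Ne.symm h), ModuleCat.hom_zero, LinearMap.zero_apply,
          TensorProduct.tmul_zero, map_zero]
    show ev ((thetaF L E K m).hom (ψ w)) = (w.v i' (i' + m) rfl).hom x
    simp only [ψ, map_sum, hone]
    rw [Finset.sum_eq_single_of_mem i' hi fun i _ hne => Finset.sum_eq_zero fun j _ => dif_neg hne]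
    conv_rhs => rw [← hφ i' x, map_sum]
    exact Finset.sum_congr rfl fun j _ => by rw [dif_pos rfl, map_smul]
  · simp only [Finset.mem_Icc] at hi
    haveI := ModuleCat.subsingleton_of_isZero (hE i' (by omega))
    rw [Subsingleton.elim x 0, map_zero, map_zero]

end Finite

theorem acyclic_tensor_homCx {L E K : DRing.Cx A} {a b : ℤ} (hE : DRing.VanishesOutside E a b)
    (hEp : DRing.TermwiseFiniteProjective E) (hK : DRingKP.IsKFlat K) (hL : ∀ i, IsZero (L.homology i)) (i : ℤ) :
    IsZero ((L ⊗ DRing.homCx E K).homology i) := by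
  haveI : ∀ m, IsIso ((theta L E K).f m) := fun m =>
    (ConcreteCategory.isIso_iff_bijective _).2 (bijective_thetaF L K hE hEp m)
  haveI : IsIso (theta L E K) := HomologicalComplex.Hom.isIso_of_components _
  haveI : E.IsKProjective := DRingKP.isKProjective_of_finiteProjective b (fun j hj => hE j (Or.inr hj)) hEp
  have h0 : IsZero (DerivedCategory.Q.obj (L ⊗ K)) := by
    have hq : QuasiIso (0 : (L ⊗ K) ⟶ (0 : DRing.Cx A)) := ⟨fun j => by
      rw [quasiIsoAt_iff_exactAt _ _ (((HomologicalComplex.exactAt_iff_isZero_homology _ _).2 (hK L hL j)))]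
      exact (HomologicalComplex.exactAt_iff_isZero_homology _ _).2
        ((HomologicalComplex.homologyFunctor _ _ j).map_isZero (isZero_zero _))⟩
    exact ((DerivedCategory.Q (C := ModuleCat.{u} A)).map_isZero (isZero_zero _)).of_iso
      (asIso (DerivedCategory.Q.map (0 : (L ⊗ K) ⟶ (0 : DRing.Cx A))))
  have hac := RHomMod.acyclic_homCx_of_kProj E (L ⊗ K) fun n =>
    ⟨fun f g => ((CategoryTheory.shiftFunctor (Dual.D A) n).map_isZero h0).eq_of_tgt f g⟩
  exact ((HomologicalComplex.exactAt_iff_isZero_homology _ _).1 (hac i)).of_iso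
    ((HomologicalComplex.homologyFunctor _ _ i).mapIso (asIso (theta L E K)))

theorem isKFlat_homCx {P K : DRing.Cx A} {b : ℤ} (hPb : DRing.VanishesAbove P b)
    (hPp : ∀ i, Module.Projective A (P.X i)) (hperf : DRing.IsPerfect A (DRing.toD P)) (hK : DRingKP.IsKFlat K) :
    DRingKP.IsKFlat (DRing.homCx P K) := by
  obtain ⟨E, a, c, hE, hEp, ⟨α⟩⟩ := hperf
  haveI : E.IsKProjective := DRingKP.isKProjective_of_finiteProjective c (fun j hj => hE j (Or.inr hj)) hEp
  haveI : CochainComplex.IsStrictlyLE P b :=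
    (CochainComplex.isStrictlyLE_iff _ _).2 fun i hi => hPb i hi
  haveI : ∀ i, Projective (P.X i) := fun i =>
    haveI := hPp i; (IsProjective.iff_projective (P.X i)).1 inferInstance
  haveI := CochainComplex.isKProjective_of_projective P b
  obtain ⟨u, hu⟩ := PerfLocal.exists_lift α.hom
  obtain ⟨v, hv⟩ := PerfLocal.exists_lift α.inv
  obtain ⟨h1⟩ := TraceDer.nonempty_homotopy (f := u ≫ v) (g := 𝟙 E)
    (by rw [Functor.map_comp, hu, hv, α.hom_inv_id, CategoryTheory.Functor.map_id])
  obtain ⟨h2⟩ := TraceDer.nonempty_homotopy (f := v ≫ u) (g := 𝟙 P)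
    (by rw [Functor.map_comp, hu, hv, α.inv_hom_id, CategoryTheory.Functor.map_id])
  obtain ⟨H1⟩ := nonempty_homotopy_preMap h1 K
  obtain ⟨H2⟩ := nonempty_homotopy_preMap h2 K
  rw [RHomMod.preMap_comp, preMap_id] at H1 H2
  let e : HomotopyEquiv (DRing.homCx E K) (DRing.homCx P K) :=
    ⟨RHomMod.preMap v K, RHomMod.preMap u K, H1, H2⟩
  exact (DRingKP.rflat_iff _).1 (KFlat.rflat_of_homotopyEquiv e
    ((DRingKP.rflat_iff _).2 fun L hL i => acyclic_tensor_homCx hE hEp hK hL i))

end Groth.Agent.HomKFlat
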